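/-
The de Rham differential on the exterior algebra of Kähler differentials, from the square-zero extension of the
exterior algebra twisted by the grade involution.
-/
import Mathlib.LinearAlgebra.ExteriorAlgebra.Basic
import Mathlib.LinearAlgebra.CliffordAlgebra.Conjugation
import Mathlib.RingTheory.Kaehler.Basic
import Mathlib.Tactic.NoncommRing

set_option autoImplicit false
noncomputable section
universe u v

namespace Groth.Agent.DeRhamD

variable (A : Type u) [CommRing A] (M : Type v) [AddCommGroup M] [Module A M]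

local notation "𝔼" => ExteriorAlgebra A M
local notation "σ" => (CliffordAlgebra.involute : ExteriorAlgebra A M →ₐ[A] ExteriorAlgebra A M)

/-- The twisted square-zero extension. -/
def Tw := ExteriorAlgebra A M × ExteriorAlgebra A M

namespace Tw

variable {A M}

instance : AddCommGroup (Tw A M) := inferInstanceAs (AddCommGroup (ExteriorAlgebra A M × ExteriorAlgebra A M))

/-- constructor -/
def mk (x y : 𝔼) : Tw A M := (x, y)
/-- first component -/
def x₁ (p : Tw A M) : 𝔼 := p.1
/-- second component -/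
def x₂ (p : Tw A M) : 𝔼 := p.2

theorem ext {p q : Tw A M} (h₁ : p.x₁ = q.x₁) (h₂ : p.x₂ = q.x₂) : p = q := Prod.ext h₁ h₂

@[simp] theorem x₁_mk (x y : 𝔼) : (mk x y).x₁ = x := rfl
@[simp] theorem x₂_mk (x y : 𝔼) : (mk x y).x₂ = y := rfl
@[simp] theorem x₁_add (p q : Tw A M) : (p + q).x₁ = p.x₁ + q.x₁ := rfl
@[simp] theorem x₂_add (p q : Tw A M) : (p + q).x₂ = p.x₂ + q.x₂ := rfl
@[simp] theorem x₁_zero : (0 : Tw A M).x₁ = 0 := rfl
@[simp] theorem x₂_zero : (0 : Tw A M).x₂ = 0 := rfl

instance : Mul (Tw A M) := ⟨fun p q => mk (p.x₁ * q.x₁) (p.x₂ * q.x₁ + σ p.x₁ * q.x₂)⟩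
instance : One (Tw A M) := ⟨mk 1 0⟩

@[simp] theorem x₁_mul (p q : Tw A M) : (p * q).x₁ = p.x₁ * q.x₁ := rfl
@[simp] theorem x₂_mul (p q : Tw A M) : (p * q).x₂ = p.x₂ * q.x₁ + σ p.x₁ * q.x₂ := rfl
@[simp] theorem x₁_one : (1 : Tw A M).x₁ = 1 := rfl
@[simp] theorem x₂_one : (1 : Tw A M).x₂ = 0 := rfl

instance : Ring (Tw A M) where
  mul_assoc p q r := ext (by simp [mul_assoc]) (by simp [mul_assoc, add_mul, mul_add]; abel)
  one_mul p := ext (by simp) (by simp)
  mul_one p := ext (by simp) (by simp)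
  left_distrib p q r := ext (by simp [mul_add]) (by simp [mul_add]; abel)
  right_distrib p q r := ext (by simp [add_mul]) (by simp [add_mul]; abel)
  zero_mul p := ext (by simp) (by simp)
  mul_zero p := ext (by simp) (by simp)
  __ := (inferInstance : AddCommGroup (Tw A M))

end Tw

theorem involute_mul_ι (x : 𝔼) (m : M) : σ x * ExteriorAlgebra.ι A m = ExteriorAlgebra.ι A m * x := by
  induction x using ExteriorAlgebra.induction with
  | algebraMap a => rw [AlgHom.commutes, Algebra.commutes]
  | ι n =>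
    rw [CliffordAlgebra.involute_ι, neg_mul, neg_eq_iff_add_eq_zero]
    exact ExteriorAlgebra.ι_add_mul_swap n m
  | mul x y hx hy => rw [map_mul, mul_assoc, hy, ← mul_assoc, hx, mul_assoc]
  | add x y hx hy => rw [map_add, add_mul, hx, hy, mul_add]

end Groth.Agent.DeRhamD

namespace Groth.Agent.DeRhamD

variable (R A : Type u) [CommRing R] [CommRing A] [Algebra R A]

local notation "Ω'" => KaehlerDifferential R A
local notation "𝔈" => ExteriorAlgebra A (KaehlerDifferential R A)
local notation "σ'" => (CliffordAlgebra.involute : ExteriorAlgebra A (KaehlerDifferential R A) →ₐ[A] ExteriorAlgebra A (KaehlerDifferential R A))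

/-- `a ↦ (a, D a)`. -/
def twMap : A →+* Tw A Ω' where
  toFun a := Tw.mk (algebraMap A 𝔈 a) (ExteriorAlgebra.ι A (KaehlerDifferential.D R A a))
  map_one' := Tw.ext (by simp) (by simp)
  map_zero' := Tw.ext (by simp) (by simp)
  map_add' a b := Tw.ext (by simp) (by simp)
  map_mul' a b := Tw.ext (by simp) (by
    simp only [Tw.x₂_mk, Tw.x₂_mul, Tw.x₁_mk, Derivation.leibniz, map_add, map_smul, AlgHom.commutes]
    rw [Algebra.smul_def, Algebra.smul_def, Algebra.commutes b]
    abel)

theorem twMap_central (a : A) (p : Tw A Ω') : twMap R A a * p = p * twMap R A a := by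
  refine Tw.ext ?_ ?_
  · show algebraMap A 𝔈 a * p.x₁ = p.x₁ * algebraMap A 𝔈 a
    exact Algebra.commutes _ _
  · show ExteriorAlgebra.ι A (KaehlerDifferential.D R A a) * p.x₁ + σ' (algebraMap A 𝔈 a) * p.x₂ =
      p.x₂ * algebraMap A 𝔈 a + σ' p.x₁ * ExteriorAlgebra.ι A (KaehlerDifferential.D R A a)
    rw [AlgHom.commutes, involute_mul_ι, Algebra.commutes, add_comm]

instance : Algebra A (Tw A Ω') := (twMap R A).toAlgebra' fun a p => twMap_central R A a p
instance : Algebra R (Tw A Ω') := Algebra.compHom _ (algebraMap R A)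
instance : IsScalarTower R A (Tw A Ω') := IsScalarTower.of_algebraMap_eq fun _ => rfl

theorem algebraMap_tw (a : A) :
    algebraMap A (Tw A Ω') a = Tw.mk (algebraMap A 𝔈 a) (ExteriorAlgebra.ι A (KaehlerDifferential.D R A a)) := rfl

/-- `b ↦ (ι D b, 0)` as a derivation. -/
def twDer : Derivation R A (Tw A Ω') :=
  Derivation.mk'
    { toFun := fun b => Tw.mk (ExteriorAlgebra.ι A (KaehlerDifferential.D R A b)) 0
      map_add' := fun a b => Tw.ext (by simp) (by simp)
      map_smul' := fun r b => by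
        rw [RingHom.id_apply, Algebra.smul_def r (Tw.mk (A := A) (M := Ω') (ExteriorAlgebra.ι A (KaehlerDifferential.D R A b)) 0),
          IsScalarTower.algebraMap_apply R A (Tw A Ω'), algebraMap_tw, Derivation.map_algebraMap]
        refine Tw.ext ?_ ?_
        · simp only [Tw.x₁_mk, Tw.x₁_mul, Derivation.map_smul]
          rw [← algebraMap_smul A r (KaehlerDifferential.D R A b), map_smul, Algebra.smul_def]
        · simp }
    fun a b => by
      rw [Algebra.smul_def, Algebra.smul_def, algebraMap_tw, algebraMap_tw]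
      refine Tw.ext ?_ ?_
      · show ExteriorAlgebra.ι A (KaehlerDifferential.D R A (a * b)) = _
        rw [Derivation.leibniz, map_add, map_smul, map_smul, Algebra.smul_def, Algebra.smul_def]
        rfl
      · show (0 : 𝔈) = ExteriorAlgebra.ι A (KaehlerDifferential.D R A a) * ExteriorAlgebra.ι A (KaehlerDifferential.D R A b) +
          σ' (algebraMap A 𝔈 a) * 0 + (ExteriorAlgebra.ι A (KaehlerDifferential.D R A b) * ExteriorAlgebra.ι A (KaehlerDifferential.D R A a) +
          σ' (algebraMap A 𝔈 b) * 0)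
        simp only [mul_zero, add_zero]
        exact (ExteriorAlgebra.ι_add_mul_swap _ _).symm

/-- `ω ↦ (ι ω, d ω)`. -/
def twLin : Ω' →ₗ[A] Tw A Ω' := (twDer R A).liftKaehlerDifferential

theorem twLin_D (b : A) : twLin R A (KaehlerDifferential.D R A b) =
    Tw.mk (ExteriorAlgebra.ι A (KaehlerDifferential.D R A b)) 0 :=
  Derivation.liftKaehlerDifferential_comp_D _ _

theorem mem_span_D (ω : Ω') : ω ∈ Submodule.span A (Set.range (KaehlerDifferential.D R A)) := by
  rw [KaehlerDifferential.span_range_derivation]; trivial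

theorem twLin_anticomm (ω η : Ω') : twLin R A ω * twLin R A η + twLin R A η * twLin R A ω = 0 := by
  induction mem_span_D R A ω using Submodule.span_induction with
  | mem x hx =>
    obtain ⟨b, rfl⟩ := hx
    induction mem_span_D R A η using Submodule.span_induction with
    | mem y hy =>
      obtain ⟨c, rfl⟩ := hy
      rw [twLin_D, twLin_D]
      refine Tw.ext ?_ ?_
      · simp only [Tw.x₁_add, Tw.x₁_mul, Tw.x₁_mk, Tw.x₁_zero]
        exact ExteriorAlgebra.ι_add_mul_swap _ _
      · simp
    | zero => simp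
    | add y z _ _ hy hz =>
      rw [map_add, mul_add, add_mul, add_add_add_comm, hy, hz, add_zero]
    | smul a y _ hy =>
      rw [map_smul, mul_smul_comm, smul_mul_assoc, ← smul_add, hy, smul_zero]
  | zero => simp
  | add y z _ _ hy hz =>
    rw [map_add, mul_add, add_mul, add_add_add_comm, hy, hz, add_zero]
  | smul a y _ hy =>
    rw [map_smul, mul_smul_comm, smul_mul_assoc, ← smul_add, hy, smul_zero]

theorem twLin_sq (ω : Ω') : twLin R A ω * twLin R A ω = 0 := by
  induction mem_span_D R A ω using Submodule.span_induction with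
  | mem x hx =>
    obtain ⟨b, rfl⟩ := hx
    rw [twLin_D]
    exact Tw.ext (ExteriorAlgebra.ι_sq_zero _) (by simp)
  | zero => simp
  | add y z _ _ hy hz =>
    rw [map_add, add_mul, mul_add, mul_add, hy, hz, zero_add, add_zero, twLin_anticomm]
  | smul a y _ hy => rw [map_smul, smul_mul_assoc, mul_smul_comm, hy, smul_zero, smul_zero]

/-- `x ↦ (x, d x)`. -/
def Φ : 𝔈 →ₐ[A] Tw A Ω' := ExteriorAlgebra.lift A ⟨twLin R A, twLin_sq R A⟩

theorem Φ_algebraMap (a : A) :
    Φ R A (algebraMap A 𝔈 a) = Tw.mk (algebraMap A 𝔈 a) (ExteriorAlgebra.ι A (KaehlerDifferential.D R A a)) :=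
  (Φ R A).commutes a

theorem Φ_ι (ω : Ω') : Φ R A (ExteriorAlgebra.ι A ω) = twLin R A ω := ExteriorAlgebra.lift_ι_apply A _ _ _

theorem Φ_fst (x : 𝔈) : (Φ R A x).x₁ = x := by
  induction x using ExteriorAlgebra.induction with
  | algebraMap a => rw [Φ_algebraMap]; rfl
  | ι ω =>
    rw [Φ_ι]
    induction mem_span_D R A ω using Submodule.span_induction with
    | mem y hy => obtain ⟨b, rfl⟩ := hy; rw [twLin_D]; rfl
    | zero => simp
    | add y z _ _ hy hz => rw [map_add, Tw.x₁_add, hy, hz, map_add]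
    | smul a y _ hy =>
      rw [map_smul, Algebra.smul_def, algebraMap_tw, Tw.x₁_mul, hy, Tw.x₁_mk, map_smul, Algebra.smul_def]
  | mul x y hx hy => rw [map_mul, Tw.x₁_mul, hx, hy]
  | add x y hx hy => rw [map_add, Tw.x₁_add, hx, hy]

/-- The de Rham differential. -/
def d : 𝔈 →ₗ[R] 𝔈 where
  toFun x := (Φ R A x).x₂
  map_add' x y := by rw [map_add, Tw.x₂_add]
  map_smul' r x := by
    rw [← algebraMap_smul A r x, map_smul, RingHom.id_apply, Algebra.smul_def, algebraMap_tw, Tw.x₂_mul,
      Derivation.map_algebraMap, map_zero, Tw.x₂_mk, zero_mul, zero_add, Tw.x₁_mk, AlgHom.commutes,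
      ← Algebra.smul_def, algebraMap_smul]

theorem d_algebraMap (a : A) : d R A (algebraMap A 𝔈 a) = ExteriorAlgebra.ι A (KaehlerDifferential.D R A a) := by
  show (Φ R A _).x₂ = _
  rw [Φ_algebraMap]; rfl

theorem d_mul (x y : 𝔈) : d R A (x * y) = d R A x * y + σ' x * d R A y := by
  show (Φ R A _).x₂ = _
  rw [map_mul, Tw.x₂_mul, Φ_fst, Φ_fst]
  rfl

theorem d_ι_D (b : A) : d R A (ExteriorAlgebra.ι A (KaehlerDifferential.D R A b)) = 0 := by
  show (Φ R A _).x₂ = _
  rw [Φ_ι, twLin_D]; rfl

theorem d_smul_ι_D (a b : A) : d R A (ExteriorAlgebra.ι A (a • KaehlerDifferential.D R A b)) =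
    ExteriorAlgebra.ι A (KaehlerDifferential.D R A a) * ExteriorAlgebra.ι A (KaehlerDifferential.D R A b) := by
  rw [map_smul, Algebra.smul_def, d_mul, d_ι_D, mul_zero, add_zero, d_algebraMap]

/-- Linear functions of `ω` vanishing on all `a D b`. -/
theorem vanish_of_smul_D {N : Type u} [AddCommGroup N] (g : Ω' →+ N)
    (hg : ∀ a b : A, g (a • KaehlerDifferential.D R A b) = 0) (ω : Ω') : g ω = 0 := by
  have key : ∀ a : A, g (a • ω) = 0 := by
    induction mem_span_D R A ω using Submodule.span_induction with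
    | mem y hy => obtain ⟨b, rfl⟩ := hy; exact fun a => hg a b
    | zero => intro a; rw [smul_zero, map_zero]
    | add y z _ _ hy hz => intro a; rw [smul_add, map_add, hy a, hz a, add_zero]
    | smul c y _ hy => intro a; rw [← mul_smul]; exact hy _
  simpa using key 1

theorem d_mem (x : 𝔈) : ∀ p : ℕ, x ∈ ExteriorAlgebra.exteriorPower A p Ω' →
    d R A x ∈ ExteriorAlgebra.exteriorPower A (p + 1) Ω' ∧ σ' x = (-1) ^ p * x := by
  intro p
  induction p generalizing x with
  | zero =>
    intro hx
    change x ∈ LinearMap.range (ExteriorAlgebra.ι A (M := Ω')) ^ 0 at hx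
    rw [pow_zero] at hx
    obtain ⟨a, rfl⟩ := Submodule.mem_one.1 hx
    refine ⟨?_, ?_⟩
    · rw [d_algebraMap]
      change _ ∈ LinearMap.range (ExteriorAlgebra.ι A (M := Ω')) ^ (0 + 1)
      rw [zero_add, pow_one]
      exact LinearMap.mem_range_self _ _
    · rw [AlgHom.commutes, pow_zero, one_mul]
  | succ p ih =>
    intro hx
    change x ∈ LinearMap.range (ExteriorAlgebra.ι A (M := Ω')) ^ (p + 1) at hx
    rw [Submodule.pow_succ] at hx
    induction hx using Submodule.mul_induction_on' with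
    | mem_mul_mem u hu v hv =>
      obtain ⟨ω, rfl⟩ := hv
      obtain ⟨h1, h2⟩ := ih u hu
      have h3 : d R A (ExteriorAlgebra.ι A ω) ∈ ExteriorAlgebra.exteriorPower A 2 Ω' := by
        induction mem_span_D R A ω using Submodule.span_induction generalizing u with
        | mem y hy => obtain ⟨b, rfl⟩ := hy; rw [d_ι_D]; exact zero_mem _
        | zero => rw [map_zero, map_zero]; exact zero_mem _
        | add y z _ _ hy hz => rw [map_add, map_add]; exact add_mem (hy u hu h1 h2) (hz u hu h1 h2)
        | smul a y _ hy =>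
          rw [map_smul, Algebra.smul_def, d_mul, d_algebraMap, AlgHom.commutes, ← Algebra.smul_def]
          refine add_mem ?_ (Submodule.smul_mem _ a (hy u hu h1 h2))
          rw [ExteriorAlgebra.exteriorPower, pow_two]
          exact Submodule.mul_mem_mul (LinearMap.mem_range_self _ _) (LinearMap.mem_range_self _ _)
      refine ⟨?_, ?_⟩
      · rw [d_mul]
        refine add_mem ?_ ?_
        · rw [ExteriorAlgebra.exteriorPower, Submodule.pow_succ]
          exact Submodule.mul_mem_mul h1 (LinearMap.mem_range_self _ _)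
        · rw [h2, mul_assoc, ExteriorAlgebra.exteriorPower, show p + 1 + 1 = p + 2 from rfl, pow_add]
          have : u * d R A (ExteriorAlgebra.ι A ω) ∈
              LinearMap.range (ExteriorAlgebra.ι A) ^ p * LinearMap.range (ExteriorAlgebra.ι A) ^ 2 :=
            Submodule.mul_mem_mul hu h3
          rcases neg_one_pow_eq_or 𝔈 p with h | h
          · rw [h, one_mul]; exact this
          · rw [h, neg_one_mul]; exact neg_mem this
      · rw [map_mul, h2, CliffordAlgebra.involute_ι, pow_succ, mul_assoc]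
        noncomm_ring
    | add u _ v _ hu hv =>
      exact ⟨by rw [map_add]; exact add_mem hu.1 hv.1, by rw [map_add, hu.2, hv.2, mul_add]⟩

theorem d_involute (x : 𝔈) : d R A (σ' x) = - σ' (d R A x) := by
  induction x using ExteriorAlgebra.induction with
  | algebraMap a => rw [AlgHom.commutes, d_algebraMap, CliffordAlgebra.involute_ι, neg_neg]
  | ι ω =>
    rw [CliffordAlgebra.involute_ι, map_neg, neg_inj]
    refine sub_eq_zero.1 (vanish_of_smul_D R A
      ((d R A).toAddMonoidHom.comp (ExteriorAlgebra.ι A).toAddMonoidHom -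
        (AlgHom.toLinearMap σ').toAddMonoidHom.comp ((d R A).toAddMonoidHom.comp (ExteriorAlgebra.ι A).toAddMonoidHom)) (fun a b => ?_) ω)
    show d R A (ExteriorAlgebra.ι A _) - σ' (d R A (ExteriorAlgebra.ι A _)) = 0
    rw [d_smul_ι_D, map_mul, CliffordAlgebra.involute_ι, CliffordAlgebra.involute_ι, neg_mul_neg, sub_self]
  | mul x y hx hy =>
    rw [map_mul, d_mul, d_mul, hx, hy, map_add, map_mul, map_mul, CliffordAlgebra.involute_involute]
    noncomm_ring
  | add x y hx hy => rw [map_add, map_add, hx, hy, map_add, map_add, neg_add]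

theorem d_d (x : 𝔈) : d R A (d R A x) = 0 := by
  induction x using ExteriorAlgebra.induction with
  | algebraMap a => rw [d_algebraMap, d_ι_D]
  | ι ω =>
    refine vanish_of_smul_D R A
      ((d R A).toAddMonoidHom.comp ((d R A).toAddMonoidHom.comp (ExteriorAlgebra.ι A).toAddMonoidHom)) (fun a b => ?_) ω
    show d R A (d R A (ExteriorAlgebra.ι A _)) = 0
    rw [d_smul_ι_D, d_mul, d_ι_D, d_ι_D, zero_mul, mul_zero, add_zero]
  | mul x y hx hy =>
    rw [d_mul, map_add, d_mul, d_mul, hx, hy, d_involute, CliffordAlgebra.involute_involute]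
    noncomm_ring
  | add x y hx hy => rw [map_add, map_add, hx, hy, add_zero]

theorem existsUnique :
    ∃! e : 𝔈 →ₗ[R] 𝔈,
      (∀ a : A, e (algebraMap A 𝔈 a) = ExteriorAlgebra.ι A (KaehlerDifferential.D R A a)) ∧
      (∀ (p : ℕ) (x : 𝔈), x ∈ ExteriorAlgebra.exteriorPower A p Ω' → e x ∈ ExteriorAlgebra.exteriorPower A (p + 1) Ω') ∧
      (∀ (p : ℕ) (x y : 𝔈), x ∈ ExteriorAlgebra.exteriorPower A p Ω' → e (x * y) = e x * y + (-1) ^ p * x * e y) ∧
      (∀ x : 𝔈, e (e x) = 0) := by
  refine ⟨d R A, ⟨d_algebraMap R A, fun p x hx => (d_mem R A x p hx).1,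
    fun p x y hx => by rw [d_mul, (d_mem R A x p hx).2], d_d R A⟩, ?_⟩
  rintro e ⟨he0, -, hem, hee⟩
  have h0 : ∀ a : A, algebraMap A 𝔈 a ∈ ExteriorAlgebra.exteriorPower A 0 Ω' := fun a => by
    rw [ExteriorAlgebra.exteriorPower, pow_zero]; exact Submodule.algebraMap_mem a
  have hι : ∀ ω, e (ExteriorAlgebra.ι A ω) = d R A (ExteriorAlgebra.ι A ω) := by
    intro ω
    refine sub_eq_zero.1 (vanish_of_smul_D R A
      ((e - d R A).toAddMonoidHom.comp (ExteriorAlgebra.ι A).toAddMonoidHom) (fun a b => ?_) ω)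
    show e (ExteriorAlgebra.ι A _) - d R A (ExteriorAlgebra.ι A _) = 0
    rw [d_smul_ι_D, map_smul, Algebra.smul_def, hem 0 _ _ (h0 a), he0, pow_zero, one_mul]
    rw [show e (ExteriorAlgebra.ι A (KaehlerDifferential.D R A b)) = 0 by rw [← he0, hee]]
    rw [mul_zero, add_zero, sub_self]
  have h1 : ∀ (x : 𝔈) (ω : Ω'), e x = d R A x → e (ExteriorAlgebra.ι A ω * x) = d R A (ExteriorAlgebra.ι A ω * x) := by
    intro x ω hx
    rw [hem 1 _ _ (by rw [ExteriorAlgebra.exteriorPower, pow_one]; exact LinearMap.mem_range_self _ _), d_mul, hι, hx,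
      CliffordAlgebra.involute_ι]
    noncomm_ring
  ext x
  suffices ∀ y, e y = d R A y → e (x * y) = d R A (x * y) by
    simpa using this 1 (by rw [← map_one (algebraMap A 𝔈), he0, d_algebraMap])
  induction x using ExteriorAlgebra.induction with
  | algebraMap a =>
    intro y hy
    rw [hem 0 _ _ (h0 a), d_mul, he0, d_algebraMap, hy, pow_zero, one_mul, AlgHom.commutes]
  | ι ω => exact fun y hy => h1 y ω hy
  | mul x z hx hz => intro y hy; rw [mul_assoc]; exact hx _ (hz _ hy)
  | add x z hx hz => intro y hy; rw [add_mul, map_add, map_add, hx y hy, hz y hy]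

end Groth.Agent.DeRhamD
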